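import Cfsg.Agent.H4.ITwo.Defs
import Mathlib.GroupTheory.FiniteAbelian.Basic
import Mathlib.GroupTheory.Sylow
import Mathlib.GroupTheory.Transfer

/-!
# S3347, part (B): transferring a bilinear form to a central extension

For an abelian noncyclic Sylow subgroup `P` on which its normaliser acts by `± 1`, a bilinear form
pulled back along `P → F_p ²` is transferred to a cocycle on `G`. The commutator of two lifts of
elements of `P` is `[G : P]` times the alternating part, so it is nonzero.
-/

set_option autoImplicit false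

open Cfsg Subgroup
open scoped commutatorElement

namespace H75.ITwo

universe u

/-- Data of a two-cocycle with values in `ZMod p`. -/
structure Cocycle (G : Type u) [Group G] (p : ℕ) where
  F : G → G → ZMod p
  assoc : ∀ g g' g'', F g g' + F (g * g') g'' = F g (g' * g'') + F g' g''
  one_left : ∀ g, F 1 g = 0
  one_right : ∀ g, F g 1 = 0

variable {G : Type u} [Group G] {p : ℕ}

/-- The extension of a cocycle. -/
@[ext]
structure Ext (C : Cocycle G p) : Type u where
  a : ZMod p
  g : G

namespace Ext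

variable {C : Cocycle G p}

instance : One (Ext C) := ⟨⟨0, 1⟩⟩
instance : Mul (Ext C) := ⟨fun x y => ⟨x.a + y.a + C.F x.g y.g, x.g * y.g⟩⟩
instance : Inv (Ext C) := ⟨fun x => ⟨-x.a - C.F x.g⁻¹ x.g, x.g⁻¹⟩⟩

theorem mul_def (x y : Ext C) : x * y = ⟨x.a + y.a + C.F x.g y.g, x.g * y.g⟩ := rfl
theorem one_def : (1 : Ext C) = ⟨0, 1⟩ := rfl
theorem inv_def (x : Ext C) : x⁻¹ = ⟨-x.a - C.F x.g⁻¹ x.g, x.g⁻¹⟩ := rfl

instance : Group (Ext C) := Group.ofLeftAxioms
  (fun x y z => by
    have := C.assoc x.g y.g z.g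
    refine Ext.ext ?_ (mul_assoc _ _ _)
    simp only [mul_def]
    linear_combination this)
  (fun x => by simp [mul_def, one_def, C.one_left])
  (fun x => by
    refine Ext.ext ?_ (inv_mul_cancel x.g)
    simp only [mul_def, inv_def, one_def]
    abel)

def toProd : Ext C ≃ ZMod p × G where
  toFun x := (x.a, x.g)
  invFun x := ⟨x.1, x.2⟩
  left_inv _ := rfl
  right_inv _ := rfl

/-- The projection of the extension. -/
def proj : Ext C →* G where
  toFun x := x.g
  map_one' := rfl
  map_mul' _ _ := rfl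

@[simp] theorem proj_apply (x : Ext C) : proj x = x.g := rfl

theorem mem_ker {x : Ext C} : x ∈ (proj : Ext C →* G).ker ↔ x.g = 1 := Iff.rfl

theorem ker_le_center : (proj : Ext C →* G).ker ≤ center (Ext C) := by
  intro x hx
  have hx : x.g = 1 := hx
  refine mem_center_iff.mpr fun y => Ext.ext ?_ ?_
  · simp [mul_def, hx, C.one_left, C.one_right, add_comm]
  · simp [mul_def, hx]

theorem card_ker : Nat.card (proj : Ext C →* G).ker = p := by
  rw [Nat.card_congr (α := (proj : Ext C →* G).ker) (β := ZMod p)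
    ⟨fun x => x.1.a, fun a => ⟨⟨a, 1⟩, rfl⟩, fun x => Subtype.ext (Ext.ext rfl x.2.symm),
      fun _ => rfl⟩]
  exact Nat.card_zmod p

/-- Two commuting elements whose cocycle values differ put the kernel into the derived group. -/
theorem ker_le_commutator [Fact p.Prime] {x y : G} (hxy : x * y = y * x)
    (hne : C.F x y ≠ C.F y x) : (proj : Ext C →* G).ker ≤ commutator (Ext C) := by
  obtain ⟨X, hX⟩ : ∃ X : Ext C, X = ⟨0, x⟩ := ⟨_, rfl⟩
  obtain ⟨Y, hY⟩ : ∃ Y : Ext C, Y = ⟨0, y⟩ := ⟨_, rfl⟩
  have h0 : X * Y = (⟨C.F x y - C.F y x, 1⟩ : Ext C) * (Y * X) := by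
    subst hX hY
    refine Ext.ext ?_ ?_
    · simp [mul_def, C.one_left]
    · simp [mul_def, hxy]
  have hc : X * Y * X⁻¹ * Y⁻¹ = (⟨C.F x y - C.F y x, 1⟩ : Ext C) := by
    rw [h0]
    group
  have hmem : (⟨C.F x y - C.F y x, 1⟩ : Ext C) ∈
      (proj : Ext C →* G).ker ⊓ commutator (Ext C) := by
    refine ⟨rfl, ?_⟩
    rw [← hc]
    rw [← commutatorElement_def]
    exact commutator_mem_commutator (mem_top _) (mem_top _)
  intro z hz
  have hP : (Nat.card (proj : Ext C →* G).ker).Prime := by
    rw [card_ker]; exact Fact.out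
  have : Fact (Nat.card (proj : Ext C →* G).ker).Prime := ⟨hP⟩
  rcases ((commutator (Ext C)).subgroupOf (proj : Ext C →* G).ker).eq_bot_or_eq_top_of_prime_card
    with h | h
  · have h1 : (⟨⟨C.F x y - C.F y x, 1⟩, hmem.1⟩ : (proj : Ext C →* G).ker) ∈
        (commutator (Ext C)).subgroupOf (proj : Ext C →* G).ker := hmem.2
    rw [h, mem_bot] at h1
    exact absurd (sub_eq_zero.mp (congrArg (fun w => w.1.a) h1)) hne
  · exact subgroupOf_eq_top.mp h hz

end Ext

/-- The form `(u₁, u₂), (v₁, v₂) ↦ u₁ v₂`. -/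
def form (u v : ZMod p × ZMod p) : ZMod p := u.1 * v.2

theorem exists_surjection [Fact p.Prime] {P : Subgroup G} [Finite P] (hP : IsPGroup p P)
    (hab : ∀ a ∈ P, ∀ b ∈ P, a * b = b * a) (hnc : ¬ IsCyclic P) :
    ∃ φ : P →* Multiplicative (ZMod p × ZMod p), ∃ a b : P,
      (φ a).toAdd = (1, 0) ∧ (φ b).toAdd = (0, 1) := by
  let _ : CommGroup P :=
    { (inferInstance : Group P) with
      mul_comm := fun a b => Subtype.ext (hab _ a.2 _ b.2) }
  obtain ⟨ι, hι, n, hn, ⟨e⟩⟩ := CommGroup.equiv_prod_multiplicative_zmod_of_finite P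
  have hij : ∃ i j : ι, i ≠ j := by
    by_contra! h
    apply hnc
    by_cases hne : Nonempty ι
    · obtain ⟨i⟩ := hne
      have hu : Unique ι := { default := i, uniq := fun j => h j i }
      exact (e.trans (MulEquiv.piUnique _)).isCyclic.mpr (isCyclic_multiplicative)
    · have : IsEmpty ι := not_nonempty_iff.mp hne
      have : Subsingleton P := e.toEquiv.subsingleton
      infer_instance
  obtain ⟨i, j, hij⟩ := hij
  classical
  have hd : ∀ k, p ∣ n k := fun k => by
    obtain ⟨m, hm⟩ := hP.exists_card_eq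
    have hc : Nat.card P = ∏ l, n l := by
      rw [Nat.card_congr e.toEquiv, Nat.card_pi]
      exact Finset.prod_congr rfl fun l _ =>
        (Nat.card_congr Multiplicative.toAdd).trans (Nat.card_zmod _)
    have hk : n k ∣ p ^ m := by
      rw [← hm, hc]; exact Finset.dvd_prod_of_mem n (Finset.mem_univ k)
    obtain ⟨l, -, hl⟩ := (Nat.dvd_prime_pow Fact.out).mp hk
    rcases l with _ | l
    · have := hn k; simp_all
    · exact hl ▸ dvd_pow_self p (Nat.succ_ne_zero l)
  let ψ : ((k : ι) → Multiplicative (ZMod (n k))) →* Multiplicative (ZMod p × ZMod p) :=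
    { toFun := fun f => Multiplicative.ofAdd
        (ZMod.castHom (hd i) (ZMod p) (f i).toAdd, ZMod.castHom (hd j) (ZMod p) (f j).toAdd)
      map_one' := by simp
      map_mul' := fun f g => by
        simp only [Pi.mul_apply, toAdd_mul, map_add, ← ofAdd_add, Prod.mk_add_mk] }
  refine ⟨ψ.comp e.toMonoidHom, e.symm (Pi.mulSingle i (Multiplicative.ofAdd 1)),
    e.symm (Pi.mulSingle j (Multiplicative.ofAdd 1)), ?_, ?_⟩ <;>
  simp [ψ, hij, hij.symm, ZMod.cast_one (hd i), ZMod.cast_one (hd j)]

/-- A homomorphism from a group that is pointwise `±` another one is `±` it everywhere. -/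
theorem sign_uniform {H : Type*} [Group H] {A : Type*} [AddCommGroup A] (L M : H → A)
    (hL : ∀ x y, L (x * y) = L x + L y) (hM : ∀ x y, M (x * y) = M x + M y)
    (h : ∀ x, L x = M x ∨ L x = -M x) : (∀ x, L x = M x) ∨ ∀ x, L x = -M x := by
  by_contra! hc
  obtain ⟨⟨x, hx⟩, ⟨y, hy⟩⟩ := hc
  have hx' := (h x).resolve_left hx
  have hy' := (h y).resolve_right hy
  rcases h (x * y) with h1 | h1
  · exact hx (by rw [hL, hM, hy'] at h1; exact add_right_cancel h1)
  · exact hy (by rw [hL, hM, hx', neg_add] at h1; exact add_left_cancel h1)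

/-- Fusion in an abelian Sylow subgroup with normaliser acting by `± 1`. -/
theorem exists_sign [Finite G] [Fact p.Prime] (P : Sylow p G)
    (hab : ∀ a ∈ (P : Subgroup G), ∀ b ∈ (P : Subgroup G), a * b = b * a)
    (hN : ∀ n ∈ normalizer ((P : Subgroup G) : Set G),
      (∀ x ∈ (P : Subgroup G), n * x * n⁻¹ = x) ∨ ∀ x ∈ (P : Subgroup G), n * x * n⁻¹ = x⁻¹)
    (φ : (P : Subgroup G) →* Multiplicative (ZMod p × ZMod p)) (s : G) :
    ∃ ε : ZMod p, ε * ε = 1 ∧ ∀ b b' : (P : Subgroup G), s⁻¹ * (b : G) * s = b' →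
      (φ b').toAdd = ε • (φ b).toAdd := by
  have : IsMulCommutative (P : Subgroup G) := ⟨⟨fun a b => Subtype.ext (hab _ a.2 _ b.2)⟩⟩
  let B : Subgroup (P : Subgroup G) :=
    ((P : Subgroup G).comap (MulAut.conj s⁻¹).toMonoidHom).subgroupOf (P : Subgroup G)
  have hB : ∀ b : (P : Subgroup G), b ∈ B ↔ s⁻¹ * (b : G) * s ∈ (P : Subgroup G) := fun b => by
    simp [B, mem_subgroupOf]
  let c : B → (P : Subgroup G) := fun b => ⟨s⁻¹ * (b.1 : G) * s, (hB b.1).mp b.2⟩
  let L : B → ZMod p × ZMod p := fun b => (φ (c b)).toAdd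
  let M : B → ZMod p × ZMod p := fun b => (φ b.1).toAdd
  have hL : ∀ x y, L (x * y) = L x + L y := fun x y => by
    have : c (x * y) = c x * c y := Subtype.ext (by simp [c, mul_assoc])
    simp [L, this]
  have hM : ∀ x y, M (x * y) = M x + M y := fun x y => by simp [M]
  have hpt : ∀ b : B, L b = M b ∨ L b = -M b := fun b => by
    obtain ⟨n, hn, he⟩ := P.conj_eq_normalizer_conj_of_mem (b.1 : G) s b.1.2 ((hB b.1).mp b.2)
    rcases hN n⁻¹ (inv_mem hn) with h | h
    · refine Or.inl ?_
      have : c b = b.1 := Subtype.ext (by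
        simp only [c]; rw [he]; simpa using h _ b.1.2)
      simp [L, M, this]
    · refine Or.inr ?_
      have : c b = b.1⁻¹ := Subtype.ext (by
        simp only [c]; rw [he]; simpa using h _ b.1.2)
      simp [L, M, this]
  rcases sign_uniform L M hL hM hpt with h | h
  · refine ⟨1, by ring, fun b b' hb => ?_⟩
    have hb1 : b ∈ B := (hB b).mpr (hb ▸ b'.2)
    have hcb : c ⟨b, hb1⟩ = b' := Subtype.ext hb
    rw [← hcb, one_smul]; exact h ⟨b, hb1⟩
  · refine ⟨-1, by ring, fun b b' hb => ?_⟩
    have hb1 : b ∈ B := (hB b).mpr (hb ▸ b'.2)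
    have hcb : c ⟨b, hb1⟩ = b' := Subtype.ext hb
    rw [← hcb, neg_one_smul]; exact h ⟨b, hb1⟩

/-- The commutator of the transferred form. -/
theorem sum_comm {X : Type*} [Fintype X] (σ : X → ZMod p) (hσ : ∀ c, σ c * σ c = 1)
    (r : X → ZMod p × ZMod p) (e f : X ≃ X) (hef : ∀ c, e (f c) = f (e c))
    (hσe : ∀ c, σ (e c) = σ c) (hσf : ∀ c, σ (f c) = σ c) (U V : ZMod p × ZMod p) :
    ∑ c, (form (σ (f c) • (U + r (f c) - r (e (f c)))) (σ c • (V + r c - r (f c))) -
      form (σ (e c) • (V + r (e c) - r (f (e c)))) (σ c • (U + r c - r (e c))))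
      = (Fintype.card X : ZMod p) * (form U V - form V U) := by
  have hs : ∀ (k : X ≃ X) (φ : X → ZMod p), ∑ c, φ (k c) = ∑ c, φ c := fun k φ =>
    Equiv.sum_comp k φ
  have key : ∀ c, form (σ (f c) • (U + r (f c) - r (e (f c)))) (σ c • (V + r c - r (f c))) -
      form (σ (e c) • (V + r (e c) - r (f (e c)))) (σ c • (U + r c - r (e c))) =
      (form U V - form V U) +
      ((form U (r c) - form U (r (f c))) - (form V (r c) - form V (r (e c)))
      + (form (r (f c)) V - form (r (f (e c))) V) - (form (r (e c)) U - form (r (f (e c))) U)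
      + (form (r (f c)) (r c) - form (r (e c)) (r c))
      + (form (r (e c)) (r (e c)) - form (r (f c)) (r (f c)))
      + (form (r (f (e c))) (r (f c)) - form (r (f (e c))) (r (e c)))) := fun c => by
    simp only [form, hσe, hσf, hef, Prod.smul_fst, Prod.smul_snd, Prod.fst_add, Prod.fst_sub,
      Prod.snd_add, Prod.snd_sub, smul_eq_mul]
    linear_combination ((U.1 + (r (f c)).1 - (r (f (e c))).1) * (V.2 + (r c).2 - (r (f c)).2) -
      (V.1 + (r (e c)).1 - (r (f (e c))).1) * (U.2 + (r c).2 - (r (e c)).2)) * hσ c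
  simp only [key, Finset.sum_add_distrib, Finset.sum_sub_distrib]
  have h1 := hs f fun c => form U (r c)
  have h2 := hs e fun c => form V (r c)
  have h3 : ∑ c, form (r (f (e c))) V = ∑ c, form (r (f c)) V :=
    hs e fun c => form (r (f c)) V
  have h4 : ∑ c, form (r (f (e c))) U = ∑ c, form (r (e c)) U := by
    simp only [← hef]; exact hs f fun c => form (r (e c)) U
  have h5 : ∑ c, form (r (f (e c))) (r (f c)) = ∑ c, form (r (e c)) (r c) := by
    simp only [← hef]; exact hs f fun c => form (r (e c)) (r c)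
  have h6 : ∑ c, form (r (f (e c))) (r (e c)) = ∑ c, form (r (f c)) (r c) :=
    hs e fun c => form (r (f c)) (r c)
  have h7 := hs e fun c => form (r c) (r c)
  have h8 := hs f fun c => form (r c) (r c)
  simp only [Finset.sum_const, Finset.card_univ, nsmul_eq_mul]
  linear_combination -h1 + h2 - h3 + h4 + h5 - h6 + h7 - h8

theorem cover : H4.ITwo.CoverStmt.{u} := by
  intro G _ _ p _ _ P hab' hnc hI
  have hN := hI.1
  have hab : ∀ a ∈ (P : Subgroup G), ∀ b ∈ (P : Subgroup G), a * b = b * a := fun a ha b hb =>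
    congrArg Subtype.val (hab'.is_comm.comm (⟨a, ha⟩ : (P : Subgroup G)) ⟨b, hb⟩)
  classical
  obtain ⟨φ, a, b, hφa, hφb⟩ := exists_surjection P.2 hab hnc
  let X := G ⧸ (P : Subgroup G)
  let _ : Fintype X := Fintype.ofFinite X
  -- orbit representatives
  let rep : X → X := fun c =>
    (Quotient.mk (MulAction.orbitRel (P : Subgroup G) X) c).out
  have hrep : ∀ c, ∃ t : (P : Subgroup G), t • rep c = c := fun c => by
    have h := Quotient.mk_out (s := MulAction.orbitRel (P : Subgroup G) X) c
    obtain ⟨t, ht⟩ := (MulAction.orbit_eq_iff.mpr h) ▸ MulAction.mem_orbit_self c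
    exact ⟨t, ht⟩
  choose t ht using hrep
  have hrepc : ∀ (x : (P : Subgroup G)) c, rep (x • c) = rep c := fun x c => by
    simp only [rep]
    rw [Quotient.sound (s := MulAction.orbitRel (P : Subgroup G) X)
      (show MulAction.orbitRel (P : Subgroup G) X (x • c) c from MulAction.mem_orbit c x)]
  let s : X → G := fun c => (t c : G) * (rep c).out
  have hs : ∀ c, (s c : X) = c := fun c => by
    simp only [s]
    show (t c : G) • (((rep c).out : G) : X) = c
    rw [QuotientGroup.out_eq']
    exact ht c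
  let h : G → X → (P : Subgroup G) := fun g c => ⟨(s (g • c))⁻¹ * g * s c, by
    rw [mul_assoc, ← QuotientGroup.eq, hs]
    exact (congrArg (g • ·) (hs c)).symm⟩
  have hh : ∀ g g' c, h (g * g') c = h g (g' • c) * h g' c := fun g g' c => by
    apply Subtype.ext
    simp only [h, Subgroup.coe_mul, mul_smul]
    group
  let u : G → X → ZMod p × ZMod p := fun g c => (φ (h g c)).toAdd
  have hu : ∀ g g' c, u (g * g') c = u g (g' • c) + u g' c := fun g g' c => by
    simp only [u, hh, map_mul, toAdd_mul]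
  have hu1 : ∀ c, u 1 c = 0 := fun c => by
    have : h 1 c = 1 := Subtype.ext (by simp [h])
    simp [u, this]
  let C : Cocycle G p :=
    { F := fun g g' => ∑ c, form (u g (g' • c)) (u g' c)
      assoc := fun g g' g'' => by
        have e1 : ∑ c, form (u g (g' • c)) (u g' c) =
            ∑ c, form (u g (g' • g'' • c)) (u g' (g'' • c)) :=
          (Equiv.sum_comp (MulAction.toPerm g'') fun c => form (u g (g' • c)) (u g' c)).symm
        show ∑ c, form (u g (g' • c)) (u g' c) + ∑ c, form (u (g * g') (g'' • c)) (u g'' c) =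
          ∑ c, form (u g ((g' * g'') • c)) (u (g' * g'') c) + ∑ c, form (u g' (g'' • c)) (u g'' c)
        rw [e1]
        simp only [hu, ← Finset.sum_add_distrib, form, Prod.fst_add, Prod.snd_add, mul_smul]
        exact Finset.sum_congr rfl fun c _ => by ring
      one_left := fun g => by simp [hu1, form]
      one_right := fun g => by simp [hu1, form] }
  -- the restriction to `P`
  choose ε hε hεb using exists_sign P hab hN φ
  let r : X → ZMod p × ZMod p := fun c => (φ (t c)).toAdd
  let σ : X → ZMod p := fun c => ε (rep c).out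
  have hux : ∀ (x : (P : Subgroup G)) c,
      u (x : G) c = σ c • ((φ x).toAdd + r c - r ((x : G) • c)) := fun x c => by
    have := hεb (rep c).out ((t (x • c))⁻¹ * x * t c) (h (x : G) c) (by
      simp only [h, s, Subgroup.coe_mul, InvMemClass.coe_inv]
      rw [show rep ((x : G) • c) = rep c from hrepc x c,
        show t ((x : G) • c) = t (x • c) from rfl]
      group)
    simp only [u, σ, r]
    rw [this, show t ((x : G) • c) = t (x • c) from rfl]
    congr 1
    simp only [map_mul, map_inv, toAdd_mul, toAdd_inv]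
    abel
  have hσP : ∀ (x : (P : Subgroup G)) c, σ ((x : G) • c) = σ c := fun x c => by
    simp only [σ, show rep ((x : G) • c) = rep c from hrepc x c]
  have hxy : (a : G) * b = b * a := hab _ a.2 _ b.2
  have : Finite (Ext C) := Finite.of_equiv _ Ext.toProd.symm
  refine ⟨{ E := Ext C, proj := Ext.proj, surj := fun g => ⟨⟨0, g⟩, rfl⟩,
            card_ker := Ext.card_ker, central := Ext.ker_le_center,
            perfect := Ext.ker_le_commutator hxy ?_ }⟩
  rw [Ne, ← sub_eq_zero]
  have := sum_comm σ (fun c => hε _) r (MulAction.toPerm (a : G)) (MulAction.toPerm (b : G))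
    (fun c => by simp only [MulAction.toPerm_apply, ← mul_smul, hxy])
    (hσP a) (hσP b) (φ a).toAdd (φ b).toAdd
  simp only [MulAction.toPerm_apply] at this
  simp only [C, ← Finset.sum_sub_distrib, hux]
  rw [this, hφa, hφb]
  simp only [form, mul_one, mul_zero, sub_zero]
  rw [ZMod.natCast_eq_zero_iff, ← Nat.card_eq_fintype_card]
  exact P.not_dvd_index

end H75.ITwo
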